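import Groth.Agent.VBCurve.K706.InvTens
import Mathlib.CategoryTheory.Monoidal.Rigid.Braided

/-!
# Liftings and dual objects in a braided category

`M`, `B` with duals `M'`, `B'`, `u : M ⟶ B` with mate `u' : B' ⟶ M'`. Liftings of `u` along `b : E ⟶ B` are liftings
of `𝟙 ⟶ B ⊗ M'` along `b ▷ M'`; maps `A ⊗ B' ⟶ w` factoring through `A ◁ u'` correspond to maps `𝟙 ⟶ N`
(`N ⊗ A ≅ w ⊗ B`) factoring through `J ⊗ N ⟶ N` if `u` is `J ⊗ B ⟶ B`.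
-/

set_option autoImplicit false
universe v u
open CategoryTheory MonoidalCategory

namespace K685.Trans.Abs

variable {C : Type u} [Category.{v} C] [MonoidalCategory C]

section lift

variable {M M' E B : C} [ExactPairing M M']

/-- Transposing a lifting problem. -/
theorem lift_iff (b : E ⟶ B) (u : M ⟶ B) :
    (∃ φ : M ⟶ E, φ ≫ b = u) ↔ ∃ s : 𝟙_ C ⟶ E ⊗ M', s ≫ b ▷ M' = η_ M M' ≫ u ▷ M' := by
  constructor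
  · rintro ⟨φ, rfl⟩
    exact ⟨η_ M M' ≫ φ ▷ M', by simp⟩
  · rintro ⟨s, hs⟩
    refine ⟨(λ_ M).inv ≫ (tensorRightHomEquiv (𝟙_ C) M M' E).symm s, ?_⟩
    have h1 : (tensorRightHomEquiv (𝟙_ C) M M' E).symm s ≫ b =
        (tensorRightHomEquiv (𝟙_ C) M M' B).symm (s ≫ b ▷ M') := by
      rw [Equiv.eq_symm_apply, tensorRightHomEquiv_naturality, Equiv.apply_symm_apply]
    rw [Category.assoc, h1, hs, tensorRightHomEquiv_symm_coevaluation_comp_whiskerRight, Iso.inv_hom_id_assoc]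

end lift

theorem exists_mate {M M' B B' : C} [ExactPairing M M'] [ExactPairing B B'] (u : M ⟶ B) :
    ∃ u' : B' ⟶ M', η_ B B' ≫ B ◁ u' = η_ M M' ≫ u ▷ M' ∧ u' ▷ M ≫ ε_ M M' = B' ◁ u ≫ ε_ B B' := by
  let : HasRightDual M := ⟨M'⟩
  let : HasRightDual B := ⟨B'⟩
  exact ⟨uᘁ, coevaluation_comp_rightAdjointMate u, rightAdjointMate_comp_evaluation u⟩

section full

variable {A A' : C}

/-- Tensoring with an invertible object is full. -/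
theorem whiskerRight_surj (e : A ⊗ A' ≅ 𝟙_ C) (e' : A' ⊗ A ≅ 𝟙_ C) {X Y : C} (q : X ⊗ A ⟶ Y ⊗ A) :
    ∃ s : X ⟶ Y, s ▷ A = q := by
  refine ⟨(K706.InvTens.unten e X).inv ≫ q ▷ A' ≫ (K706.InvTens.unten e Y).hom, ?_⟩
  refine K706.InvTens.whiskerRight_injective e' ?_
  have h := K706.InvTens.unten_nat e
    ((K706.InvTens.unten e X).inv ≫ q ▷ A' ≫ (K706.InvTens.unten e Y).hom)
  rw [Iso.hom_inv_id_assoc] at h
  exact (cancel_mono _).1 h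

end full

section low

variable [BraidedCategory C] {w A B B' : C} [ExactPairing B B']

/-- `A ⊗ B' ⟶ w` from `A ⟶ w ⊗ B` -/
def low (h : A ⟶ w ⊗ B) : A ⊗ B' ⟶ w :=
  h ▷ B' ≫ (α_ w B B').hom ≫ w ◁ ((β_ B B').hom ≫ ε_ B B') ≫ (ρ_ w).hom

theorem low_surj (f : A ⊗ B' ⟶ w) : ∃ h : A ⟶ w ⊗ B, low (B' := B') h = f := by
  let := BraidedCategory.exactPairing_swap B B'
  exact ⟨tensorRightHomEquiv A B' B w f, (tensorRightHomEquiv A B' B w).symm_apply_apply f⟩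

theorem low_comp {M M' : C} [ExactPairing M M'] (u : M ⟶ B) (u' : B' ⟶ M')
    (hu : u' ▷ M ≫ ε_ M M' = B' ◁ u ≫ ε_ B B') (h : A ⟶ w ⊗ M) :
    low (B' := B') (h ≫ w ◁ u) = A ◁ u' ≫ low (B' := M') h := by
  have h1 : u ▷ B' ≫ (β_ B B').hom ≫ ε_ B B' = M ◁ u' ≫ (β_ M M').hom ≫ ε_ M M' := by
    rw [BraidedCategory.braiding_naturality_left_assoc, BraidedCategory.braiding_naturality_right_assoc, hu]
  unfold low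
  generalize (β_ B B').hom ≫ ε_ B B' = p at h1 ⊢
  generalize (β_ M M').hom ≫ ε_ M M' = q at h1 ⊢
  calc (h ≫ w ◁ u) ▷ B' ≫ (α_ w B B').hom ≫ w ◁ p ≫ (ρ_ w).hom
      = h ▷ B' ≫ (α_ w M B').hom ≫ w ◁ (u ▷ B' ≫ p) ≫ (ρ_ w).hom := by simp
    _ = h ▷ B' ≫ (α_ w M B').hom ≫ w ◁ (M ◁ u' ≫ q) ≫ (ρ_ w).hom := by rw [h1]
    _ = (h ▷ B' ≫ (w ⊗ M) ◁ u') ≫ (α_ w M M').hom ≫ w ◁ q ≫ (ρ_ w).hom := by simp
    _ = A ◁ u' ≫ h ▷ M' ≫ (α_ w M M').hom ≫ w ◁ q ≫ (ρ_ w).hom := by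
      rw [← whisker_exchange, Category.assoc]

end low

section up

variable {N A Z : C} (θ : N ⊗ A ≅ Z)

/-- `A ⟶ Z` from `𝟙 ⟶ N` -/
def up (v : 𝟙_ C ⟶ N) : A ⟶ Z := (λ_ A).inv ≫ v ▷ A ≫ θ.hom

theorem up_surj {A' : C} (e : A ⊗ A' ≅ 𝟙_ C) (e' : A' ⊗ A ≅ 𝟙_ C) (h : A ⟶ Z) : ∃ v : 𝟙_ C ⟶ N, up θ v = h := by
  obtain ⟨v, hv⟩ := whiskerRight_surj e e' ((λ_ A).hom ≫ h ≫ θ.inv)
  refine ⟨v, ?_⟩
  rw [up, hv]
  simp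

theorem up_inj {A' : C} (e : A ⊗ A' ≅ 𝟙_ C) {v v' : 𝟙_ C ⟶ N} (h : up θ v = up θ v') : v = v' := by
  refine K706.InvTens.whiskerRight_injective e ?_
  simpa [up] using h

end up

section main

variable [SymmetricCategory C] {N A A' w B J : C} (θ : N ⊗ A ≅ w ⊗ B) (j : J ⟶ 𝟙_ C)

/-- `X(-D) ⟶ X` -/
abbrev inc (j : J ⟶ 𝟙_ C) (X : C) : J ⊗ X ⟶ X := j ▷ X ≫ (λ_ X).hom

/-- `J ⊗ (w ⊗ B) ≅ w ⊗ (J ⊗ B)` -/
def kap (J w B : C) : J ⊗ (w ⊗ B) ≅ w ⊗ (J ⊗ B) :=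
  (α_ J w B).symm ≪≫ whiskerRightIso (β_ J w) B ≪≫ α_ w J B

theorem kap_inc : (kap J w B).hom ≫ w ◁ inc j B = inc j (w ⊗ B) := by
  have h1 : (β_ J w).hom ≫ w ◁ j = j ▷ w ≫ (β_ (𝟙_ C) w).hom := (BraidedCategory.braiding_naturality_left j w).symm
  calc (kap J w B).hom ≫ w ◁ inc j B
      = (α_ J w B).inv ≫ ((β_ J w).hom ≫ w ◁ j) ▷ B ≫ (α_ w (𝟙_ C) B).hom ≫ w ◁ (λ_ B).hom := by
        simp [kap, inc]
    _ = (α_ J w B).inv ≫ (j ▷ w ≫ (β_ (𝟙_ C) w).hom) ▷ B ≫ (α_ w (𝟙_ C) B).hom ≫ w ◁ (λ_ B).hom := by rw [h1]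
    _ = inc j (w ⊗ B) := by simp [inc]

/-- The factorisations through `J ⊗ N ⟶ N` and through `w ⊗ (J ⊗ B) ⟶ w ⊗ B` correspond. -/
theorem factor_iff (e : A ⊗ A' ≅ 𝟙_ C) (v : 𝟙_ C ⟶ N) :
    (∃ s : 𝟙_ C ⟶ J ⊗ N, s ≫ inc j N = v) ↔ ∃ h : A ⟶ w ⊗ (J ⊗ B), h ≫ w ◁ inc j B = up θ v := by
  have key : ∀ (s : 𝟙_ C ⟶ J ⊗ N), ((λ_ A).inv ≫ s ▷ A ≫ (α_ J N A).hom ≫ J ◁ θ.hom ≫ (kap J w B).hom) ≫
      w ◁ inc j B = up θ (s ≫ inc j N) := by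
    intro s
    simp only [Category.assoc]
    rw [kap_inc]
    simp only [inc, up, comp_whiskerRight, Category.assoc]
    rw [whisker_exchange_assoc]
    simp
  constructor
  · rintro ⟨s, rfl⟩
    exact ⟨_, key s⟩
  · rintro ⟨h, hh⟩
    obtain ⟨s, hs⟩ := whiskerRight_surj e ((β_ A' A) ≪≫ e)
      ((λ_ A).hom ≫ h ≫ (kap J w B).inv ≫ J ◁ θ.inv ≫ (α_ J N A).inv)
    refine ⟨s, up_inj θ e ?_⟩
    rw [← key s, hs, ← hh]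
    simp

/-- **The formal part**: properties of maps `A ⊗ B' ⟶ w` factoring through `A ◁ u'` versus maps `𝟙 ⟶ N` factoring
through `J ⊗ N ⟶ N`. -/
theorem forall_iff {B' M' : C} [ExactPairing B B'] [ExactPairing (J ⊗ B) M'] (e : A ⊗ A' ≅ 𝟙_ C)
    (u' : B' ⟶ M') (hu : u' ▷ (J ⊗ B) ≫ ε_ (J ⊗ B) M' = B' ◁ inc j B ≫ ε_ B B') (P : (A ⊗ B' ⟶ w) → Prop) :
    (∀ φ : A ⊗ M' ⟶ w, P (A ◁ u' ≫ φ)) ↔
      ∀ v : 𝟙_ C ⟶ N, (∃ s : 𝟙_ C ⟶ J ⊗ N, s ≫ inc j N = v) → P (low (B' := B') (up θ v)) := by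
  constructor
  · intro h v hv
    obtain ⟨h₁, hh⟩ := (factor_iff θ j e v).1 hv
    rw [← hh, low_comp (inc j B) u' hu h₁]
    exact h _
  · intro h φ
    obtain ⟨h₁, rfl⟩ := low_surj (B := J ⊗ B) φ
    rw [← low_comp (inc j B) u' hu h₁]
    obtain ⟨v, hv⟩ := up_surj θ e ((β_ A' A) ≪≫ e) (h₁ ≫ w ◁ inc j B)
    rw [← hv]
    exact h v ((factor_iff θ j e v).2 ⟨h₁, hv.symm⟩)

end main

end K685.Trans.Abs
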