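import Groth.Agent.VBCurve.K685.TransGeo
import Groth.Agent.VBCurve.K569.SubInv
import Groth.Prelude.Def_Omega2

/-!
# SUB-TRANS (S15230): liftings of `B(-∑ x) ⟶ B` to an extension and Serre duality
-/

set_option autoImplicit false
universe u
open CategoryTheory CategoryTheory.Limits AlgebraicGeometry MonoidalCategory

namespace K685.Trans.Fin

open scoped Groth.Agent.Dcoh.MonCat
open Groth.Agent K685.Trans.Abs K553.Sub

theorem inc_cons {C : Type*} [Category C] [MonoidalCategory C] {D J t Y : C} (d : D ⟶ 𝟙_ C) (j : J ⟶ 𝟙_ C)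
    (f : t ⟶ J ⊗ Y) : (D ◁ f ≫ (α_ D J Y).inv) ≫ inc (inc d J ≫ j) Y = inc d t ≫ f ≫ inc j Y := by
  simp only [inc, comp_whiskerRight, Category.assoc]
  have h : d ▷ t ≫ (λ_ t).hom ≫ f = D ◁ f ≫ d ▷ (J ⊗ Y) ≫ (λ_ (J ⊗ Y)).hom := by
    rw [whisker_exchange_assoc, leftUnitor_naturality]
  rw [reassoc_of% h]
  simp

theorem inc_nat {C : Type*} [Category C] [MonoidalCategory C] {J X Y : C} (j : J ⟶ 𝟙_ C) (f : X ⟶ Y) :
    J ◁ f ≫ inc j Y = inc j X ≫ f := by
  rw [inc, whisker_exchange_assoc, leftUnitor_naturality, inc, Category.assoc]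

section gen

variable {S : Scheme.{u}} {C : Over S} {T : Over S}

/-- `O(-∑ l)` -/
noncomputable def JJ (y : T ⟶ C) : List (T ⟶ C) → T.left.Modules
  | [] => 𝟙_ T.left.Modules
  | z :: l => (D z y ⊗ JJ y l : T.left.Modules)

/-- `O(-∑ l) ⟶ O` -/
noncomputable def jj (y : T ⟶ C) : (l : List (T ⟶ C)) → (JJ y l ⟶ 𝟙_ T.left.Modules)
  | [] => 𝟙 _
  | z :: l => inc (Dι z y) (JJ y l) ≫ jj y l

/-- `tw N l y` is a tensor product. -/
noncomputable def twIso (N : C.left.Modules) (y : T ⟶ C) : (l : List (T ⟶ C)) →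
    (tw N l y ≅ (JJ y l ⊗ (Scheme.Modules.pullback y.left).obj N : T.left.Modules))
  | [] => (λ_ _).symm
  | z :: l => whiskerLeftIso (D z y) (twIso N y l) ≪≫ (α_ _ _ _).symm

theorem twIso_inc (N : C.left.Modules) (y : T ⟶ C) (l : List (T ⟶ C)) :
    (twIso N y l).hom ≫ inc (jj y l) _ = twι N l y := by
  induction l with
  | nil =>
    change (λ_ _).inv ≫ (𝟙 _ ▷ _) ≫ (λ_ _).hom = 𝟙 _
    simp
  | cons z l ih =>
    refine (inc_cons (Dι z y) (jj y l) (twIso N y l).hom).trans ?_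
    rw [ih]
    rfl

/-- `twp N x` is a tensor product. -/
noncomputable def twpIso (N : C.left.Modules) (x : List (pt S ⟶ C)) :
    twp N x ≅ (JJ (𝟙 C) (x.map cst) ⊗ N : C.left.Modules) :=
  twIso N (𝟙 C) (x.map cst) ≪≫ whiskerLeftIso _ ((Scheme.Modules.pullbackId C.left).app N)

theorem twpIso_inc (N : C.left.Modules) (x : List (pt S ⟶ C)) :
    (twpIso N x).hom ≫ inc (jj (𝟙 C) (x.map cst)) N = twpι N x := by
  have h1 := inc_nat (jj (𝟙 C) (x.map cst)) ((Scheme.Modules.pullbackId C.left).hom.app N)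
  have h2 := congrArg (fun f => f ≫ (Scheme.Modules.pullbackId C.left).hom.app N) (twIso_inc N (𝟙 C) (x.map cst))
  refine Eq.trans ?_ h2
  refine (Category.assoc _ _ _).trans (Eq.trans ?_ (Category.assoc _ _ _).symm)
  exact congrArg (fun f => (twIso N (𝟙 C) (x.map cst)).hom ≫ f) h1

theorem factor_twp (N : C.left.Modules) (x : List (pt S ⟶ C)) {E : C.left.Modules} (b : E ⟶ N) :
    (∃ φ : twp N x ⟶ E, φ ≫ b = twpι N x) ↔
      ∃ φ : (JJ (𝟙 C) (x.map cst) ⊗ N : C.left.Modules) ⟶ E, φ ≫ b = inc (jj (𝟙 C) (x.map cst)) N := by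
  constructor
  · rintro ⟨φ, hφ⟩
    exact ⟨(twpIso N x).inv ≫ φ, by rw [Category.assoc, hφ, Iso.inv_comp_eq, twpIso_inc]⟩
  · rintro ⟨φ, hφ⟩
    exact ⟨(twpIso N x).hom ≫ φ, by rw [Category.assoc, hφ, twpIso_inc]⟩

theorem van_iff (N : C.left.Modules) (x : List (pt S ⟶ C)) (v : 𝟙_ C.left.Modules ⟶ N) :
    Van N x v ↔ ∃ s : 𝟙_ C.left.Modules ⟶ (JJ (𝟙 C) (x.map cst) ⊗ N : C.left.Modules),
      s ≫ inc (jj (𝟙 C) (x.map cst)) N = v := by
  constructor
  · rintro ⟨w, rfl⟩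
    exact ⟨w ≫ (twpIso N x).hom, by rw [Category.assoc, twpIso_inc]⟩
  · rintro ⟨s, rfl⟩
    exact ⟨s ≫ (twpIso N x).inv, by rw [Category.assoc, ← twpIso_inc, Iso.inv_hom_id_assoc]⟩

end gen

section field

variable {k : Type u} [Field k] [IsAlgClosed k] (C : Over (Spec (CommRingCat.of k)))
  [IsIntegral C.left] [IsProper C.hom] [Smooth C.hom] (hdim : topologicalKrullDim C.left = 1)

include hdim in
theorem isInvertible_JJ (y : C ⟶ C) (l : List (C ⟶ C)) : PicF.IsInvertible (JJ y l) := by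
  induction l with
  | nil => exact fun x => Fdesc.LocGen.isInvertible_structureModule x
  | cons z l ih => exact Fdesc.LocGen.isInvertible_tensorMod (isInvertible_D C hdim z y) ih

end field

end K685.Trans.Fin

namespace K553.Sub

open scoped Groth.Agent.Dcoh.MonCat
open Groth.Agent K685.Trans.Abs K685.Trans.Fin

variable {k : Type u} [Field k] [IsAlgClosed k] (C : Over (Spec (CommRingCat.of k)))
  [IsIntegral C.left] [IsProper C.hom] [Smooth C.hom] (hdim : topologicalKrullDim C.left = 1)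

include hdim in
/-- For an extension `0 → A → E → B → 0` of invertible modules on `C` let `N = A⁻¹ ⊗ ω ⊗ B`. There is a linear
functional `ε` on `Hom(O, N)` such that for every effective divisor `∑ x` the inclusion `B(-∑ x) → B` lifts to `E`
if and only if `ε` kills the sections of `N` vanishing on `∑ x`. -/
theorem exists_functional {A E B : C.left.Modules} (hA : PicF.IsInvertible A) (hB : PicF.IsInvertible B)
    (a : A ⟶ E) (b : E ⟶ B) (w : a ≫ b = 0) (hS : (ShortComplex.mk a b w).ShortExact) :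
    ∃ (N : C.left.Modules) (_ : PicF.IsInvertible N)
      (_ : CohB1.tensorMod N A ≅ CohB1.tensorMod (Omega.sheaf C.hom) B)
      (ε : (Coh.structureModule C.left ⟶ N) →ₗ[k] k),
      ∀ x : List (pt (Spec (CommRingCat.of k)) ⟶ C),
        (∃ φ : twp B x ⟶ E, φ ≫ b = twpι B x) ↔ IsZ ε x := by
  have hp : IsProper (C.left ↘ Spec (CommRingCat.of k)) := ‹IsProper C.hom›
  have hs : Smooth (C.left ↘ Spec (CommRingCat.of k)) := ‹Smooth C.hom›
  obtain ⟨w₀, t, hw, ht⟩ := K706.Serre.exists_pair k C.left hdim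
  have h1 : Module.finrank k (Coh.HH C.left w₀ 1) ≠ 0 := by
    rw [← CurvesC.DualSetup.h0_unit hw ht (Ega2.QCohLocal.isQCoh_of_isInvertible hw),
      VarietyA.CurveFin.finrank_h0_structure k C.left]
    exact one_ne_zero
  obtain ⟨eΩ⟩ := K706.Serre.nonempty_iso_omega hdim hw (K706.Serre.deg_w hdim hw ht) h1
  obtain ⟨A', hA', ⟨e⟩⟩ := K706.InvTens.exists_inv hA
  let N : C.left.Modules := ((w₀ ⊗ B : C.left.Modules) ⊗ A' : C.left.Modules)
  have hN : PicF.IsInvertible N :=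
    Fdesc.LocGen.isInvertible_tensorMod (Fdesc.LocGen.isInvertible_tensorMod hw hB) hA'
  let θ : (N ⊗ A : C.left.Modules) ≅ (w₀ ⊗ B : C.left.Modules) :=
    (α_ _ _ _) ≪≫ whiskerLeftIso _ ((β_ A' A) ≪≫ e) ≪≫ (ρ_ _)
  obtain ⟨ε, hε⟩ := K685.Trans.Geo.main hA hB a b w hS ht θ
  refine ⟨N, hN, θ ≪≫ whiskerRightIso eΩ B, ε, fun x => ?_⟩
  refine (factor_twp B x b).trans ((hε _ (isInvertible_JJ C hdim _ _) _).trans ?_)
  exact forall_congr' fun v => imp_congr (van_iff N x v).symm Iff.rfl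

end K553.Sub
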