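import Groth.Agent.VBCurve.K685.TransAbs
import Groth.Agent.VBCurve.K706.Serre
import Groth.Agent.VBCurve.K706.HomFin
import Groth.Agent.Variety.K431.BiReg
import Groth.Agent.Dcoh.DualFLF
import Groth.Agent.Dcoh.MonInst
import Groth.Agent.CurvesB.HZero
import Groth.Agent.VarietyA.EulerLES
import Groth.Agent.Grpsch.CubeClosed
import Groth.Agent.Sga67.LocBasisOps

/-!
# Liftings of maps between invertible modules and Serre duality on a curve

`X` over a field with a dualizing pair `(w, t)`, `0 ⟶ A ⟶ E ⟶ B ⟶ 0` exact with `A`, `B` invertible, `N ⊗ A ≅ w ⊗ B`.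
There is a linear functional `ε` on `Hom(O, N)` such that for every invertible `J` and `j : J ⟶ O` the map
`J ⊗ B ⟶ B` lifts to `E` if and only if `ε` kills all sections of `N` in the image of `J ⊗ N`.
-/

set_option autoImplicit false
universe u
open CategoryTheory CategoryTheory.Limits AlgebraicGeometry MonoidalCategory

namespace K685.Trans.Geo

open scoped Groth.Agent.Dcoh.MonCat
open Groth.Agent Groth.Agent.VarietyA.EulerLES Groth.Agent.CurvesC K685.Trans.Abs

variable {X : Scheme.{u}}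

/-- The class of `1` in `H^0(X, O)`. -/
noncomputable def oneH (X : Scheme.{u}) : Coh.HH X (Coh.structureModule X) 0 :=
  (CurvesB.HZero.equivAdd (Coh.structureModule X)).symm (Dcoh.Restrict.one ⊤)

/-- The class in `H^0` of a map `O ⟶ M`. -/
noncomputable def cls {M : X.Modules} (c : Coh.structureModule X ⟶ M) : Coh.HH X M 0 := mapΓ c 0 (oneH X)

theorem cls_comp {M M' : X.Modules} (c : Coh.structureModule X ⟶ M) (f : M ⟶ M') : cls (c ≫ f) = mapΓ f 0 (cls c) := by
  unfold cls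
  rw [mapΓ_comp]
  rfl

theorem equivAdd_cls {M : X.Modules} (c : Coh.structureModule X ⟶ M) :
    CurvesB.HZero.equivAdd M (cls c) = Dcoh.Restrict.unitEquiv M c := by
  unfold cls
  rw [mapΓ_apply]
  refine (CurvesB.HZero.equivAdd_map c (oneH X)).trans ?_
  rw [oneH, AddEquiv.apply_symm_apply]
  rfl

theorem cls_injective {M : X.Modules} {c c' : Coh.structureModule X ⟶ M} (h : cls c = cls c') : c = c' := by
  apply (Dcoh.Restrict.unitEquiv M).injective
  rw [← equivAdd_cls, ← equivAdd_cls, h]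

theorem cls_surjective {M : X.Modules} (x : Coh.HH X M 0) : ∃ c : Coh.structureModule X ⟶ M, cls c = x := by
  refine ⟨(Dcoh.Restrict.unitEquiv M).symm (CurvesB.HZero.equivAdd M x), ?_⟩
  apply (CurvesB.HZero.equivAdd M).injective
  rw [equivAdd_cls, AddEquiv.apply_symm_apply]

/-- A map `O ⟶ S₃` lifts to `S₂` iff its image in `H^1(S₁)` vanishes. -/
theorem exists_lift_iff {S : ShortComplex X.Modules} (hS : S.ShortExact) (c : Coh.structureModule X ⟶ S.X₃) :
    (∃ s : Coh.structureModule X ⟶ S.X₂, s ≫ S.g = c) ↔ deltaΓ S hS 0 1 rfl (cls c) = 0 := by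
  rw [exact₃ S hS 0 1 rfl (cls c)]
  constructor
  · rintro ⟨s, rfl⟩
    exact ⟨cls s, (cls_comp s S.g).symm⟩
  · rintro ⟨y, hy⟩
    obtain ⟨s, rfl⟩ := cls_surjective y
    exact ⟨s, cls_injective (by rw [cls_comp, hy])⟩

/-- Naturality of the connecting map. -/
theorem delta_nat {S₁ S₂ : ShortComplex X.Modules} (h₁ : S₁.ShortExact) (h₂ : S₂.ShortExact) (f : S₁ ⟶ S₂)
    (x : Coh.HH X S₁.X₃ 0) :
    deltaΓ S₂ h₂ 0 1 rfl (mapΓ f.τ₃ 0 x) = mapΓ f.τ₁ 1 (deltaΓ S₁ h₁ 0 1 rfl x) := by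
  have h := extCl_naturality h₁ h₂ ((toAbF X).map f.τ₁) ((toAbF X).map f.τ₂) ((toAbF X).map f.τ₃)
    (by rw [← Functor.map_comp, ← Functor.map_comp, f.comm₁₂])
    (by rw [← Functor.map_comp, ← Functor.map_comp, f.comm₂₃])
  rw [deltaΓ_apply, deltaΓ_apply, mapΓ_apply, mapΓ_apply, Sheaf.H.map_apply, Sheaf.H.map_apply,
    Abelian.Ext.comp_assoc_of_second_deg_zero, Abelian.Ext.comp_assoc_of_third_deg_zero, h]

section lin

variable (k : Type u) [Field k] [X.Over (Spec (CommRingCat.of k))]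

theorem mapA_add {M M' : X.Modules} (f g : M ⟶ M') (n : ℕ) (x : Coh.HH X M n) :
    mapA k (f + g) n x = mapA k f n x + mapA k g n x := by
  change mapΓ (f + g) n x = mapΓ f n x + mapΓ g n x
  rw [mapΓ_add]
  rfl

theorem mapA_smul {M M' : X.Modules} (a : k) (f : M ⟶ M') (n : ℕ) (x : Coh.HH X M n) :
    mapA k (a • f) n x = a • mapA k f n x := by
  rw [← map_smul]
  change mapΓ (Formal.smulMod k M a ≫ f) n x = mapΓ f n (a • x)
  rw [mapΓ_comp]
  rfl

theorem smul_whiskerLeft {M N : X.Modules} (a : k) (f : M ⟶ N) (P : X.Modules) : P ◁ (a • f) = a • (P ◁ f) := by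
  have h1 : (β_ P M).hom ≫ (a • f) ▷ P ≫ (β_ N P).hom = P ◁ (a • f) := by
    rw [← BraidedCategory.braiding_naturality_right_assoc]
    simp
  rw [← h1, K706.HomFin.smul_whiskerRight, Linear.smul_comp, Linear.comp_smul,
    ← BraidedCategory.braiding_naturality_right_assoc]
  simp

end lin

section main

variable {k : Type u} [Field k] [X.Over (Spec (CommRingCat.of k))]

/-- The functional on `Hom(O, N)`. -/
noncomputable def eps {w N A B B' : X.Modules} [ExactPairing B B'] (θ : N ⊗ A ≅ w ⊗ B)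
    (t : Coh.HH X w 1 →ₗ[k] k) (δ₀ : Coh.HH X (A ⊗ B') 1) : (𝟙_ X.Modules ⟶ N) →ₗ[k] k where
  toFun v := t (mapA k (low (B' := B') (up θ v)) 1 δ₀)
  map_add' v v' := by
    have h : low (B' := B') (up θ (v + v')) = low (B' := B') (up θ v) + low (B' := B') (up θ v') := by
      simp only [low, up, MonoidalPreadditive.add_whiskerRight, Preadditive.add_comp, Preadditive.comp_add]
    rw [h, mapA_add, map_add]
  map_smul' c v := by
    have h : low (B' := B') (up θ (c • v)) = c • low (B' := B') (up θ v) := by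
      simp only [low, up, K706.HomFin.smul_whiskerRight, Linear.smul_comp, Linear.comp_smul]
    rw [h, mapA_smul, map_smul]
    rfl

theorem eps_apply {w N A B B' : X.Modules} [ExactPairing B B'] (θ : N ⊗ A ≅ w ⊗ B)
    (t : Coh.HH X w 1 →ₗ[k] k) (δ₀ : Coh.HH X (A ⊗ B') 1) (v : 𝟙_ X.Modules ⟶ N) :
    eps θ t δ₀ v = t (mapA k (low (B' := B') (up θ v)) 1 δ₀) := rfl

/-- A class in `H^1` of a quasi-coherent module vanishes iff all functionals `t ∘ H^1(φ)` vanish on it. -/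
theorem eq_zero_iff {w M : X.Modules} {t : Coh.HH X w 1 →ₗ[k] k} (ht : DualCount.IsPair k t) (hM : Coh.IsQCoh M)
    (x : Coh.HH X M 1) : x = 0 ↔ ∀ φ : M ⟶ w, t (mapA k φ 1 x) = 0 := by
  constructor
  · rintro rfl φ
    rw [map_zero, map_zero]
  · intro h
    have h1 : Module.Free k (Coh.HH X M 1) := Module.Free.of_divisionRing k _
    have h2 : Module.Projective k (Coh.HH X M 1) := Module.Projective.of_free
    refine (Module.forall_dual_apply_eq_zero_iff k x).mp fun ψ => ?_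
    obtain ⟨φ, hφ, -⟩ := ht M hM ψ
    rw [hφ x]
    exact h φ

theorem main {A E B N w : X.Modules} (hA : PicF.IsInvertible A) (hB : PicF.IsInvertible B) (a : A ⟶ E) (b : E ⟶ B)
    (z : a ≫ b = 0) (hS : (ShortComplex.mk a b z).ShortExact) {t : Coh.HH X w 1 →ₗ[k] k}
    (ht : DualCount.IsPair k t) (θ : N ⊗ A ≅ w ⊗ B) :
    ∃ ε : (𝟙_ X.Modules ⟶ N) →ₗ[k] k, ∀ (J : X.Modules) (_ : PicF.IsInvertible J) (j : J ⟶ 𝟙_ X.Modules),
      (∃ φ : J ⊗ B ⟶ E, φ ≫ b = inc j B) ↔
        ∀ v : 𝟙_ X.Modules ⟶ N, (∃ s : 𝟙_ X.Modules ⟶ J ⊗ N, s ≫ inc j N = v) → ε v = 0 := by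
  obtain ⟨A', -, ⟨e⟩⟩ := K706.InvTens.exists_inv hA
  have fA := Grpsch.CubeClosed.isFinLocFree_of_isInvertible hA
  have fB := Grpsch.CubeClosed.isFinLocFree_of_isInvertible hB
  obtain ⟨B', ⟨pB⟩⟩ := Dcoh.DualFLF.exists_exactPairing fB
  have fB' := Dcoh.DualFLF.isFinLocFree_dual fB B'
  have hSB := Variety.K431.BiReg.shortExact_tensor fB' hS
  refine ⟨eps θ t (deltaΓ _ hSB 0 1 rfl (cls (X := X) (η_ B B'))), fun J hJ j => ?_⟩
  have fJ := Grpsch.CubeClosed.isFinLocFree_of_isInvertible hJ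
  have fM : FlatMod.IsFinLocFree (J ⊗ B) := Sga67.LocBasis.isFinLocFree_tensorMod fJ fB
  obtain ⟨M', ⟨pM⟩⟩ := Dcoh.DualFLF.exists_exactPairing fM
  have fM' := Dcoh.DualFLF.isFinLocFree_dual fM M'
  have hSM := Variety.K431.BiReg.shortExact_tensor fM' hS
  obtain ⟨u', hu1, hu2⟩ := exists_mate (M' := M') (B' := B') (inc j B)
  have hq : Coh.IsQCoh (A ⊗ M') :=
    Ega2.QCohLocal.isQCoh_of_isFinLocFree (Sga67.LocBasis.isFinLocFree_tensorMod fA fM')
  rw [lift_iff (M' := M') b (inc j B), ← hu1]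
  refine (exists_lift_iff hSM (η_ B B' ≫ B ◁ u')).trans ?_
  let f : ((ShortComplex.mk a b z).map (DCoh.tensorRightMod B')) ⟶ ((ShortComplex.mk a b z).map (DCoh.tensorRightMod M')) :=
    { τ₁ := A ◁ u'
      τ₂ := E ◁ u'
      τ₃ := B ◁ u'
      comm₁₂ := whisker_exchange a u'
      comm₂₃ := whisker_exchange b u' }
  have h1 := delta_nat hSB hSM f (cls (X := X) (η_ B B'))
  have h2 : deltaΓ _ hSM 0 1 rfl (cls (X := X) (η_ B B' ≫ B ◁ u')) =
      mapA k (A ◁ u') 1 (deltaΓ _ hSB 0 1 rfl (cls (X := X) (η_ B B'))) :=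
    (congrArg (deltaΓ _ hSM 0 1 rfl) (cls_comp (X := X) (η_ B B') (B ◁ u'))).trans h1
  refine (Iff.of_eq (congrArg (· = 0) h2)).trans ((eq_zero_iff ht hq _).trans ?_)
  refine Iff.trans ?_ (forall_iff θ j e u' hu2
    (fun f => t (mapA k f 1 (deltaΓ _ hSB 0 1 rfl (cls (X := X) (η_ B B')))) = 0))
  refine forall_congr' fun φ => ?_
  rw [mapA_comp]
  exact Iff.rfl

end main

end K685.Trans.Geo
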